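import Cfsg.Agent.Lib.Calc.Model2

/-!
# The first 44 relators of the Lyons group in the letters for coset enumerations
-/

set_option autoImplicit false
set_option maxRecDepth 1000000
set_option maxHeartbeats 0
set_option Elab.async false

namespace Cfsg.Lib.Ly

open Cfsg.Lib.Calc

/-- The relators for coset enumerations. -/
def tcR : List W := [.pow (.l 1) 8, .pow (.l 3) 5, .pow (.mul (.l 1) (.l 3)) 4, .mul (.mul (.mul (.inv (.pow (.l 1) 2)) (.inv (.l 3))) (.pow (.l 1) 2)) (.l 3), .pow (.mul (.mul (.mul (.inv (.l 1)) (.inv (.l 3))) (.l 1)) (.l 3)) 3, .mul (.l 18) (.inv (.l 5)),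
  .mul (.l 10) (.inv (.mul (.mul (.inv (.l 1)) (.l 5)) (.l 1))),
  .mul (.l 12) (.inv (.mul (.mul (.inv (.l 3)) (.l 5)) (.l 3))),
  .mul (.l 14) (.inv (.mul (.mul (.inv (.inv (.l 3))) (.l 5)) (.inv (.l 3)))),
  .mul (.l 16) (.inv (.mul (.mul (.mul (.inv (.l 18)) (.inv (.l 10))) (.l 18)) (.l 10))), .pow (.l 18) 5, .pow (.l 16) 5, .mul (.mul (.mul (.inv (.l 18)) (.inv (.l 16))) (.l 18)) (.l 16),
  .mul (.mul (.mul (.inv (.l 10)) (.inv (.l 16))) (.l 10)) (.l 16),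
  .mul (.mul (.mul (.inv (.l 12)) (.inv (.l 16))) (.l 12)) (.l 16),
  .mul (.mul (.mul (.inv (.l 14)) (.inv (.l 16))) (.l 14)) (.l 16),
  .mul (.mul (.mul (.mul (.inv (.l 18)) (.inv (.l 12))) (.l 18)) (.l 12)) (.inv (.inv (.pow (.l 16) 2))),
  .mul (.mul (.mul (.mul (.inv (.l 18)) (.inv (.l 14))) (.l 18)) (.l 14)) (.inv (.pow (.l 16) 2)),
  .mul (.mul (.mul (.mul (.inv (.l 10)) (.inv (.l 12))) (.l 10)) (.l 12)) (.inv (.inv (.l 16))),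
  .mul (.mul (.mul (.inv (.l 10)) (.inv (.l 14))) (.l 10)) (.l 14),
  .mul (.mul (.mul (.mul (.inv (.l 12)) (.inv (.l 14))) (.l 12)) (.l 14)) (.inv (.inv (.l 16))),
  .mul (.mul (.mul (.inv (.l 1)) (.l 10)) (.l 1)) (.inv (.inv (.pow (.l 18) 2))),
  .mul (.mul (.mul (.inv (.l 1)) (.l 12)) (.l 1)) (.inv (.mul (.mul (.inv (.pow (.l 12) 2)) (.l 18)) (.l 14))),
  .mul (.mul (.mul (.inv (.l 1)) (.l 14)) (.l 1)) (.inv (.mul (.mul (.mul (.mul (.mul (.l 18) (.inv (.l 10))) (.inv (.l 12))) (.l 14)) (.l 18)) (.l 14))),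
  .mul (.mul (.mul (.inv (.l 1)) (.l 16)) (.l 1)) (.inv (.pow (.l 16) 2)),
  .mul (.mul (.mul (.inv (.l 3)) (.l 10)) (.l 3)) (.inv (.mul (.mul (.mul (.mul (.l 10) (.l 12)) (.inv (.l 14))) (.inv (.l 18))) (.inv (.l 14)))),
  .mul (.mul (.mul (.inv (.l 3)) (.l 12)) (.l 3)) (.inv (.mul (.mul (.pow (.l 18) 2) (.l 14)) (.inv (.pow (.l 12) 2)))),
  .mul (.mul (.mul (.inv (.l 3)) (.l 16)) (.l 3)) (.inv (.l 16)),
  .mul (.l 9) (.inv (.mul (.mul (.mul (.mul (.mul (.mul (.mul (.mul (.mul (.mul (.mul (.mul (.inv (.pow (.l 3) 2)) (.mul (.mul (.mul (.inv (.l 1)) (.inv (.l 18))) (.l 1)) (.l 18))) (.inv (.l 1))) (.l 18)) (.l 1)) (.l 7)) (.l 18)) (.l 3)) (.l 1)) (.inv (.l 3))) (.l 7)) (.l 18)) (.l 7))), .pow (.l 9) 2, .mul (.mul (.mul (.inv (.l 9)) (.l 18)) (.l 9)) (.inv (.mul (.mul (.mul (.l 3) (.l 12)) (.l 3)) (.inv (.l 18)))),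
  .mul (.mul (.mul (.inv (.l 9)) (.l 12)) (.l 9)) (.inv (.mul (.mul (.mul (.mul (.mul (.pow (.l 3) 2) (.l 1)) (.l 10)) (.inv (.l 18))) (.inv (.l 14))) (.inv (.l 1)))),
  .mul (.mul (.mul (.inv (.l 9)) (.l 14)) (.l 9)) (.inv (.mul (.mul (.pow (.l 3) 2) (.inv (.l 12))) (.l 14))),
  .mul (.mul (.mul (.inv (.l 9)) (.l 16)) (.l 9)) (.inv (.mul (.mul (.mul (.l 18) (.inv (.l 12))) (.l 18)) (.inv (.l 14)))),
  .mul (.mul (.mul (.l 9) (.pow (.l 1) 2)) (.l 9)) (.inv (.mul (.mul (.mul (.mul (.mul (.mul (.mul (.l 1) (.pow (.l 3) 2)) (.l 1)) (.inv (.l 3))) (.l 1)) (.l 18)) (.l 16)) (.inv (.l 14)))),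
  .mul (.mul (.mul (.inv (.l 9)) (.l 3)) (.l 9)) (.inv (.mul (.mul (.l 18) (.inv (.l 12))) (.inv (.pow (.l 14) 2)))),
  .mul (.mul (.mul (.mul (.mul (.mul (.mul (.l 9) (.l 1)) (.pow (.l 3) 2)) (.l 1)) (.inv (.l 3))) (.l 1)) (.l 9)) (.inv (.mul (.mul (.mul (.pow (.l 1) 2) (.l 18)) (.l 16)) (.inv (.l 14)))),
  .mul (.mul (.mul (.mul (.mul (.mul (.mul (.mul (.mul (.l 9) (.l 10)) (.l 9)) (.inv (.l 10))) (.l 9)) (.l 10)) (.inv (.l 14))) (.l 1)) (.l 12)) (.pow (.l 1) 3),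
  .mul (.l 7) (.inv (.mul (.mul (.mul (.mul (.mul (.mul (.mul (.mul (.mul (.mul (.mul (.mul (.mul (.mul (.l 1) (.pow (.l 3) 2)) (.inv (.l 1))) (.inv (.l 3))) (.inv (.l 18))) (.inv (.l 14))) (.inv (.l 16))) (.l 1)) (.l 9)) (.l 1)) (.l 9)) (.l 1)) (.inv (.l 10))) (.l 3)) (.l 9))),
  .mul (.pow (.l 7) 2) (.inv (.pow (.l 1) 4)),
  .mul (.mul (.mul (.inv (.l 3)) (.inv (.l 7))) (.l 3)) (.l 7),
  .mul (.mul (.mul (.inv (.l 7)) (.l 1)) (.l 7)) (.inv (.pow (.l 1) 3)), .pow (.mul (.l 7) (.l 16)) 5, .mul (.mul (.mul (.mul (.mul (.mul (.l 7) (.l 16)) (.l 7)) (.inv (.l 16))) (.l 7)) (.l 16)) (.inv (.pow (.l 1) 2))]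

/-- Inverses of letters. -/
def tcI : ℕ := nat_lit 737214392205380629394296538176

end Cfsg.Lib.Ly
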